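import Cfsg.Agent.H817.DPi.Def
import Cfsg.Agent.S2535
import Cfsg.Agent.S2536

/-!
# S4247, row ALT (helper581, task 5883): alternating groups have no non-nilpotent Hall subgroups of odd order
-/

set_option autoImplicit false

namespace Cfsg.Agent.H581.DPi

open Subgroup Cfsg Cfsg.Agent.H988.CPi Cfsg.Agent.H571.RV Cfsg.Agent.H817.DPi

universe u

variable {π : Set ℕ}

/-- a Hall `π`-subgroup of an alternating group of degree at least 5 is nilpotent if `2 ∉ π` -/
theorem nilpotent_of_alt {S : Type u} [Group S] [Finite S] (h : IsAlternating S) (h2 : 2 ∉ π) {P : Subgroup S}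
    (hP : IsPiHall π P) : Group.IsNilpotent P := by
  obtain ⟨n, hn, ⟨e⟩⟩ := h
  have hP' : IsPiHall π (P.map e.toMonoidHom) := by
    refine ⟨fun p hp hd => hP.1 p hp ?_, fun p hp hpπ hd => hP.2 p hp hpπ ?_⟩
    · rwa [Nat.card_congr (P.equivMapOfInjective e.toMonoidHom e.injective).toEquiv]
    · rwa [← Subgroup.index_map_equiv P e]
  have hE : IsEPiGroup π (Equiv.Perm (Fin n)) := (Cfsg.Agent.S2535.result n π).2.1.2 ⟨_, hP'⟩
  have hpr : ∀ p : ℕ, p.Prime → p ∣ Nat.card P → p ∈ π ∧ p ≤ n := by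
    intro p hp hd
    refine ⟨hP.1 p hp hd, (Nat.Prime.dvd_factorial hp).1 ?_⟩
    have h1 : Nat.card P ∣ Nat.card (alternatingGroup (Fin n)) := by
      rw [← Nat.card_congr e.toEquiv]
      exact Subgroup.card_subgroup_dvd_card P
    have h3 : Nat.card (alternatingGroup (Fin n)) ∣ n.factorial := by
      have h4 := Subgroup.card_subgroup_dvd_card (alternatingGroup (Fin n))
      rwa [Nat.card_perm, Nat.card_fin] at h4
    exact (hd.trans h1).trans h3
  by_cases h3 : ∃ r s : ℕ, r.Prime ∧ s.Prime ∧ r ≠ s ∧ r ∈ π ∧ s ∈ π ∧ r ≤ n ∧ s ≤ n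
  · exfalso
    rcases (Cfsg.Agent.S2536.result n π h3 ⟨2, Nat.prime_two, by omega, h2⟩).1 hE with ⟨-, h⟩ | ⟨-, h⟩
    · exact h2 ((h 2 Nat.prime_two (by omega)).2 (by omega))
    · exact h2 ((h 2 Nat.prime_two (by omega)).2 (Or.inl rfl))
  · by_cases h1 : Nat.card P = 1
    · have := (Nat.card_eq_one_iff_unique.1 h1).1
      infer_instance
    · obtain ⟨r, hr, hrP⟩ := Nat.exists_prime_and_dvd h1
      have : Fact r.Prime := ⟨hr⟩
      have h4 : ∀ s : ℕ, s.Prime → s ∣ Nat.card P → s = r := by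
        intro s hs hsP
        by_contra hne
        exact h3 ⟨s, r, hs, hr, hne, (hpr s hs hsP).1, (hpr r hr hrP).1, (hpr s hs hsP).2, (hpr r hr hrP).2⟩
      have h5 : Nat.card P = r ^ (Nat.card P).primeFactorsList.length :=
        Nat.eq_prime_pow_of_unique_prime_dvd Nat.card_pos.ne' (fun {d} hd hdP => h4 d hd hdP)
      exact (IsPGroup.of_card h5).isNilpotent

/-- Task Alt -/
theorem row_alt {S : Type u} [Group S] [Finite S] [IsSimpleGroup S] (h : IsAlternating S) : Row π S :=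
  fun _ _ _ hc _ => absurd (nilpotent_of_alt h hc.two hc.hall) hc.nnil

end Cfsg.Agent.H581.DPi
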